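import Mathlib
import Groth.Agent.Lib.Helper2.RDer7

/-! # Dimension shifting for right derived functors (abstract). -/

set_option autoImplicit false
universe v v' u u'
open CategoryTheory Limits

namespace Groth.Agent.LD.PE

open Groth.Agent.H2.RDer

variable {A : Type u} [Category.{v} A] [Abelian A] [HasInjectiveResolutions A]
  {B : Type u'} [Category.{v'} B] [Abelian B]
  (F : A ⥤ B) [F.Additive] [PreservesFiniteLimits F]

/-- a left exact functor keeps a short exact sequence exact when `R¹F` of the kernel vanishes. -/
theorem shortExact_map_of_isZero_R1 {S : ShortComplex A} (hS : S.ShortExact)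
    (h : IsZero ((F.rightDerived 1).obj S.X₁)) : (S.map F).ShortExact := by
  haveI := hS.mono_f
  have e3 := LES.exact₃ F hS 0
  haveI : Epi ((F.rightDerived 0).map S.g) := e3.epi_f (h.eq_of_tgt _ _)
  haveI : Epi (F.map S.g) := by
    have hn := F.rightDerivedZeroIsoSelf.hom.naturality S.g
    have : F.map S.g = F.rightDerivedZeroIsoSelf.inv.app S.X₂ ≫ (F.rightDerived 0).map S.g ≫
        F.rightDerivedZeroIsoSelf.hom.app S.X₃ := by
      rw [hn, Iso.inv_hom_id_app_assoc]
    rw [this]
    infer_instance
  haveI : Mono (S.map F).f := by
    change Mono (F.map S.f)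
    infer_instance
  haveI : Epi (S.map F).g := by
    change Epi (F.map S.g)
    infer_instance
  exact ShortComplex.ShortExact.mk
    (hS.exact.map_of_mono_of_preservesKernel F hS.mono_f inferInstance)

/-- dimension shifting: the cokernel of an embedding into an injective object. -/
theorem isZero_rightDerived_X₃ {S : ShortComplex A} (hS : S.ShortExact) [Injective S.X₂] (q : ℕ)
    (h : IsZero ((F.rightDerived (q + 2)).obj S.X₁)) :
    IsZero ((F.rightDerived (q + 1)).obj S.X₃) := by
  have e3 := LES.exact₃ F hS (q + 1)
  exact e3.isZero_of_both_zeros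
    ((F.isZero_rightDerived_obj_injective_succ q S.X₂).eq_of_src _ _) (h.eq_of_tgt _ _)

end Groth.Agent.LD.PE
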