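import Mathlib
import Groth.Prelude.Def_CohPull

/-! # The edge map `H^p(Y, f_* A) → H^p(X, A)` for abelian sheaves: naturality and compatibility with
connecting homomorphisms. -/

set_option autoImplicit false
universe u
open CategoryTheory Limits Opposite Abelian TopologicalSpace

namespace Groth.Agent.LD.PE

open CohPull

variable {X Y : TopCat.{u}} (f : X ⟶ Y)

/-- counit of `f⁻¹ ⊣ f_*`. -/
noncomputable abbrev eps (A : CohTop.Ab X) : (inv f).obj ((CohTop.push f).obj A) ⟶ A :=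
  (invPushAdj f).counit.app A

/-- the edge map for abelian sheaves. -/
noncomputable def edgeAb (A : CohTop.Ab X) (p : ℕ) :
    Sheaf.H ((CohTop.push f).obj A) p →+ Sheaf.H A p :=
  (Sheaf.H.map (eps f A) p).comp (pullAb f ((CohTop.push f).obj A) p)

lemma edgeAb_apply (A : CohTop.Ab X) (p : ℕ) (y : Sheaf.H ((CohTop.push f).obj A) p) :
    edgeAb f A p y = ((Ext.mk₀ (oneTo f)).comp (y.mapExactFunctor (inv f)) (zero_add p)).comp
      (Ext.mk₀ (eps f A)) (add_zero p) := rfl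

lemma edgeAb_naturality {A B : CohTop.Ab X} (φ : A ⟶ B) (p : ℕ)
    (y : Sheaf.H ((CohTop.push f).obj A) p) :
    edgeAb f B p (Sheaf.H.map ((CohTop.push f).map φ) p y) = Sheaf.H.map φ p (edgeAb f A p y) := by
  have hnat : (inv f).map ((CohTop.push f).map φ) ≫ eps f B = eps f A ≫ φ :=
    (invPushAdj f).counit.naturality φ
  rw [edgeAb_apply, edgeAb_apply, Sheaf.H.map_apply, Sheaf.H.map_apply, Ext.mapExactFunctor_comp,
    Ext.mapExactFunctor_mk₀]
  rw [Ext.comp_assoc_of_third_deg_zero, Ext.comp_assoc_of_third_deg_zero,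
    Ext.comp_assoc_of_third_deg_zero, Ext.comp_assoc_of_third_deg_zero,
    Ext.mk₀_comp_mk₀, Ext.mk₀_comp_mk₀, hnat]

lemma edgeAb_comp {A₁ A₃ : CohTop.Ab X} (ES : Ext A₃ A₁ 1)
    (ET : Ext ((CohTop.push f).obj A₃) ((CohTop.push f).obj A₁) 1)
    (h : (ET.mapExactFunctor (inv f)).comp (Ext.mk₀ (eps f A₁)) (add_zero 1) =
      (Ext.mk₀ (eps f A₃)).comp ES (zero_add 1))
    (p : ℕ) (y : Sheaf.H ((CohTop.push f).obj A₃) p) :
    edgeAb f A₁ (p + 1) (y.comp ET rfl) = (edgeAb f A₃ p y).comp ES rfl := by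
  rw [edgeAb_apply, edgeAb_apply, Ext.mapExactFunctor_comp]
  rw [Ext.comp_assoc _ _ _ (zero_add (p+1)) (add_zero (p+1)) (by omega),
    Ext.comp_assoc _ _ _ rfl (add_zero 1) (by omega)]
  have e1 := Ext.comp_assoc (Ext.mk₀ (oneTo f))
    ((y.mapExactFunctor (inv f)).comp (Ext.mk₀ (eps f A₃)) (add_zero p)) ES (zero_add p) rfl
    (show 0 + p + 1 = p + 1 by omega)
  have e2 := Ext.comp_assoc (y.mapExactFunctor (inv f)) (Ext.mk₀ (eps f A₃)) ES (add_zero p)
    (zero_add 1) (show p + 0 + 1 = p + 1 by omega)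
  have e0 := Ext.comp_assoc (Ext.mk₀ (oneTo f)) (y.mapExactFunctor (inv f)) (Ext.mk₀ (eps f A₃))
    (zero_add p) (add_zero p) (show 0 + p + 0 = p by omega)
  rw [e0, e1, e2, h]

lemma edgeAb_δ {S : ShortComplex (CohTop.Ab X)} (hS : S.ShortExact)
    (hT : (S.map (CohTop.push f)).ShortExact) (p : ℕ)
    (y : Sheaf.H ((CohTop.push f).obj S.X₃) p) :
    edgeAb f S.X₁ (p + 1) (y.comp hT.extClass rfl) =
      (edgeAb f S.X₃ p y).comp hS.extClass rfl := by
  let κ : (S.map (CohTop.push f)).map (inv f) ⟶ S :=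
    { τ₁ := eps f S.X₁
      τ₂ := eps f S.X₂
      τ₃ := eps f S.X₃
      comm₁₂ := ((invPushAdj f).counit.naturality S.f).symm
      comm₂₃ := ((invPushAdj f).counit.naturality S.g).symm }
  have h := ShortComplex.ShortExact.extClass_naturality (hT.map_of_exact (inv f)) hS κ
  refine edgeAb_comp f hS.extClass hT.extClass ?_ p y
  have e : Ext.mapExactFunctor (inv f) hT.extClass = (hT.map_of_exact (inv f)).extClass :=
    Ext.mapExactFunctor_extClass (inv f) hT
  refine Eq.trans ?_ h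
  exact congrArg (fun t : Ext ((inv f).obj ((CohTop.push f).obj S.X₃))
    ((inv f).obj ((CohTop.push f).obj S.X₁)) 1 => t.comp (Ext.mk₀ (eps f S.X₁)) (add_zero 1)) e

end Groth.Agent.LD.PE
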