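import Groth.Agent.Lib.Lead.PE.EdgeZero
import Groth.Agent.Lib.Lead.PE.Shift
import Groth.Agent.Lib.Lead.SC.RPushComp

/-! # The edge map `H^p(Y, f_* A) → H^p(X, A)` is bijective when the higher direct images vanish. -/

set_option autoImplicit false
universe u
open CategoryTheory Limits Opposite Abelian TopologicalSpace

namespace Groth.Agent.LD.PE

open CohPull

variable {X Y : TopCat.{u}} (f : X ⟶ Y)

/-- the inductive step (a diagram chase). -/
theorem edgeAb_step {S : ShortComplex (CohTop.Ab X)} (hS : S.ShortExact)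
    (hT : (S.map (CohTop.push f)).ShortExact) (p : ℕ)
    (h2 : Function.Surjective (edgeAb f S.X₂ p)) (h3 : Function.Bijective (edgeAb f S.X₃ p))
    (v2 : ∀ x : Sheaf.H S.X₂ (p + 1), x = 0)
    (w2 : ∀ y : Sheaf.H ((CohTop.push f).obj S.X₂) (p + 1), y = 0) :
    Function.Bijective (edgeAb f S.X₁ (p + 1)) := by
  constructor
  · rw [injective_iff_map_eq_zero]
    intro y₁ hy₁
    obtain ⟨y₃, hy₃⟩ := Ext.covariant_sequence_exact₁ _ hT y₁ (w2 _) rfl
    subst hy₃
    have hy₁' : (edgeAb f S.X₃ p y₃).comp hS.extClass rfl = 0 :=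
      (edgeAb_δ f hS hT p y₃).symm.trans hy₁
    obtain ⟨x₂, hx₂⟩ := Ext.covariant_sequence_exact₃ _ hS _ rfl hy₁'
    obtain ⟨y₂, rfl⟩ := h2 x₂
    have hnat := edgeAb_naturality f S.g p y₂
    have h33 : Sheaf.H.map ((CohTop.push f).map S.g) p y₂ = y₃ :=
      h3.1 (hnat.trans hx₂)
    have hz : (Ext.mk₀ ((CohTop.push f).map S.g)).comp hT.extClass (zero_add 1) = 0 :=
      hT.comp_extClass
    have hassoc := Ext.comp_assoc (y₂ : Sheaf.H ((CohTop.push f).obj S.X₂) p)
      (Ext.mk₀ ((CohTop.push f).map S.g)) hT.extClass (add_zero p) (zero_add 1)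
      (show p + 0 + 1 = p + 1 by omega)
    have h0 : (Sheaf.H.map ((CohTop.push f).map S.g) p y₂).comp hT.extClass rfl = 0 :=
      hassoc.trans (by rw [hz, Ext.comp_zero])
    exact (congrArg (fun t : Sheaf.H ((CohTop.push f).obj S.X₃) p => t.comp hT.extClass rfl)
      h33).symm.trans h0
  · intro x₁
    obtain ⟨x₃, hx₃⟩ := Ext.covariant_sequence_exact₁ _ hS x₁ (v2 _) rfl
    obtain ⟨y₃, rfl⟩ := h3.2 x₃
    exact ⟨(y₃ : Sheaf.H ((CohTop.push f).obj S.X₃) p).comp hT.extClass rfl,
      (edgeAb_δ f hS hT p y₃).trans hx₃⟩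

theorem edgeAb_bijective (p : ℕ) : ∀ (A : CohTop.Ab X),
    (∀ q : ℕ, IsZero (((CohTop.push f).rightDerived (q + 1)).obj A)) →
      Function.Bijective (edgeAb f A p) := by
  induction p with
  | zero => exact fun A _ => edgeAb_zero_bijective f A
  | succ p ih =>
    intro A hA
    let S : ShortComplex (CohTop.Ab X) :=
      ShortComplex.mk (Injective.ι A) (cokernel.π (Injective.ι A)) (cokernel.condition _)
    have hS : S.ShortExact :=
      { exact := ShortComplex.exact_cokernel (Injective.ι A)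
        mono_f := inferInstanceAs (Mono (Injective.ι A))
        epi_g := inferInstanceAs (Epi (cokernel.π (Injective.ι A))) }
    haveI : Injective S.X₂ := inferInstanceAs (Injective (Injective.under A))
    have hT := shortExact_map_of_isZero_R1 (CohTop.push f) hS (hA 0)
    have hQ : ∀ q : ℕ, IsZero (((CohTop.push f).rightDerived (q + 1)).obj S.X₃) :=
      fun q => isZero_rightDerived_X₃ (CohTop.push f) hS q (hA (q + 1))
    haveI : Injective ((CohTop.push f).obj S.X₂) :=
      Groth.Agent.LD.SC.injective_pushAb f S.X₂ inferInstance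
    exact edgeAb_step f hS hT p
      (ih S.X₂ (fun q => Functor.isZero_rightDerived_obj_injective_succ _ q S.X₂)).2
      (ih S.X₃ hQ) (fun x => Ext.eq_zero_of_injective x) (fun y => Ext.eq_zero_of_injective y)

end Groth.Agent.LD.PE
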