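import Groth.Agent.Lib.Lead.PE.EdgeAb

/-! # The edge map in degree zero is bijective. -/

set_option autoImplicit false
universe u
open CategoryTheory Limits Opposite Abelian TopologicalSpace

namespace Groth.Agent.LD.PE

open CohPull

variable {X Y : TopCat.{u}} (f : X ⟶ Y)

lemma equiv₀_edgeAb (A : CohTop.Ab X) (y : Sheaf.H ((CohTop.push f).obj A) 0) :
    Sheaf.H.equiv₀ A isTerminalTop (edgeAb f A 0 y) =
      Sheaf.H.equiv₀ ((CohTop.push f).obj A) isTerminalTop y := by
  have tri := (invPushAdj f).right_triangle_components A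
  have h1 : edgeAb f A 0 y = Sheaf.H.map (eps f A) 0 (pullAb f ((CohTop.push f).obj A) 0 y) := rfl
  rw [h1, ← Sheaf.H.equiv₀_naturality, equiv₀_pullAb]
  have := congr_arg (fun t => t.hom.app (op ⊤)
    (Sheaf.H.equiv₀ ((CohTop.push f).obj A) isTerminalTop y)) tri
  simp only [ObjectProperty.FullSubcategory.comp_hom, NatTrans.comp_app,
    ConcreteCategory.comp_apply] at this
  exact this

theorem edgeAb_zero_bijective (A : CohTop.Ab X) : Function.Bijective (edgeAb f A 0) := by
  have h : ∀ y, edgeAb f A 0 y = (Sheaf.H.equiv₀ A isTerminalTop).symm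
      (Sheaf.H.equiv₀ ((CohTop.push f).obj A) isTerminalTop y) := by
    intro y
    rw [AddEquiv.eq_symm_apply]
    exact equiv₀_edgeAb f A y
  constructor
  · intro y y' hy
    rw [h, h] at hy
    exact (Sheaf.H.equiv₀ ((CohTop.push f).obj A) isTerminalTop).injective
      ((Sheaf.H.equiv₀ A isTerminalTop).symm.injective hy)
  · intro x
    refine ⟨(Sheaf.H.equiv₀ ((CohTop.push f).obj A) isTerminalTop).symm
      (Sheaf.H.equiv₀ A isTerminalTop x), ?_⟩
    rw [h, AddEquiv.apply_symm_apply, AddEquiv.symm_apply_apply]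

end Groth.Agent.LD.PE
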