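import Groth.Agent.Lib.Lead.PE.EdgeBij
import Groth.Agent.Lib.Lead.RP.Compare2

/-! # `CohPull.pushEdge` is bijective when the higher direct images vanish. -/

set_option autoImplicit false
universe u
open CategoryTheory Limits Opposite Abelian TopologicalSpace AlgebraicGeometry

namespace Groth.Agent.LD.PE

open CohPull

variable {X Y : Scheme.{u}} (f : X ⟶ Y)

lemma theta_counit (G : X.Modules) :
    theta f ((Scheme.Modules.pushforward f).obj G) ≫
      (SheafOfModules.toSheaf X.ringCatSheaf).map
        ((Scheme.Modules.pullbackPushforwardAdjunction f).counit.app G) =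
      eps f.base (Coh.toAb G) := by
  have tri := (Scheme.Modules.pullbackPushforwardAdjunction f).right_triangle_components G
  have h : (SheafOfModules.toSheaf Y.ringCatSheaf).map
        ((Scheme.Modules.pullbackPushforwardAdjunction f).unit.app
          ((Scheme.Modules.pushforward f).obj G)) ≫
      (CohTop.push f.base).map ((SheafOfModules.toSheaf X.ringCatSheaf).map
        ((Scheme.Modules.pullbackPushforwardAdjunction f).counit.app G)) =
      𝟙 (Coh.toAb ((Scheme.Modules.pushforward f).obj G)) := by
    have := congrArg (fun t => (SheafOfModules.toSheaf Y.ringCatSheaf).map t) tri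
    exact ((SheafOfModules.toSheaf Y.ringCatSheaf).map_comp _ _).symm.trans
      (this.trans ((SheafOfModules.toSheaf Y.ringCatSheaf).map_id _))
  have e1 := Adjunction.homEquiv_naturality_right_symm (invPushAdj f.base)
    ((SheafOfModules.toSheaf Y.ringCatSheaf).map
      ((Scheme.Modules.pullbackPushforwardAdjunction f).unit.app
        ((Scheme.Modules.pushforward f).obj G)))
    ((SheafOfModules.toSheaf X.ringCatSheaf).map
      ((Scheme.Modules.pullbackPushforwardAdjunction f).counit.app G))
  refine e1.symm.trans ?_
  refine (congrArg (fun t => ((invPushAdj f.base).homEquiv _ _).symm t) h).trans ?_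
  rw [Adjunction.homEquiv_counit]
  exact (congrArg (fun t => t ≫ (invPushAdj f.base).counit.app (Coh.toAb G))
    ((CohPull.inv f.base).map_id _)).trans (Category.id_comp _)

theorem pushEdge_eq (G : X.Modules) (p : ℕ)
    (y : Coh.HH Y ((Scheme.Modules.pushforward f).obj G) p) :
    pushEdge f G p y = edgeAb f.base (Coh.toAb G) p y := by
  have h := theta_counit f G
  change Sheaf.H.map _ p (Sheaf.H.map (theta f ((Scheme.Modules.pushforward f).obj G)) p
    (pullAb f.base _ p y)) = Sheaf.H.map (eps f.base (Coh.toAb G)) p (pullAb f.base _ p y)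
  rw [← Sheaf.H.map_comp_apply, h]
  rfl

theorem pushEdge_bijective [HasInjectiveResolutions X.Modules] (G : X.Modules)
    (hG : ∀ q : ℕ, 0 < q → IsZero ((Coh.Rpush f q).obj G)) (p : ℕ) :
    Function.Bijective (pushEdge f G p) := by
  have hfun : ⇑(pushEdge f G p) = ⇑(edgeAb f.base (Coh.toAb G) p) := funext (pushEdge_eq f G p)
  rw [hfun]
  refine edgeAb_bijective f.base p (Coh.toAb G) (fun q => ?_)
  obtain ⟨e⟩ := Groth.Agent.LD.RP.nonempty_toAb_Rpush_iso f G (q + 1)
  exact IsZero.of_iso (Functor.map_isZero _ (hG (q + 1) (Nat.succ_pos q))) e.symm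

end Groth.Agent.LD.PE
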